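import Groth.Agent.L16.UnipOrbit.Coideal
import Groth.Agent.L18.GIT.UnivQuot
import Groth.Agent.L25.Actions
import Groth.Agent.L22.AffineDescent
import Groth.Agent.L06.Constr
import Groth.Agent.L11.Magnet.Factor
import Groth.Agent.L08.TorusQuot.Affine
import Groth.Agent.L19.AlgGrpBasic.ActKernel
import Groth.Prelude.Def_CoactBr
import Groth.Prelude.Def_Mor2
import Mathlib.AlgebraicGeometry.QuasiAffine
import Mathlib.AlgebraicGeometry.Morphisms.UniversallyOpen
import Mathlib.AlgebraicGeometry.Morphisms.FinitePresentation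

/-!
# Orbits of unipotent groups on quasi-affine schemes are closed
-/

set_option autoImplicit false
set_option linter.style.haveILetI false
set_option backward.isDefEq.respectTransparency.types false
set_option backward.isDefEq.respectTransparency false

universe u

open CategoryTheory CategoryTheory.Limits MonoidalCategory CartesianMonoidalCategory MonObj AlgebraicGeometry
open scoped TensorProduct
open WithConv
open Groth.L08.TorusQuot (SP toPt ofPt toPt_ofPt ofPt_toPt)

noncomputable section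

namespace Groth.L16.UnipOrbit

variable {k : Type u} [Field k]

local notation "pt" => CoactBr.pt

/-- Global functions pulled back along a point. -/
def evalPt {X : Over (Spec (CommRingCat.of k))} {D : Type u} [CommRing D] [Algebra k D]
    (v : CoactBr.sp k D ⟶ X) : Γ(X.left, ⊤) →+* D :=
  (v.left.appTop ≫ (Scheme.ΓSpecIso (CommRingCat.of D)).hom).hom

theorem evalPt_comp {X : Over (Spec (CommRingCat.of k))} {D D' : Type u} [CommRing D] [Algebra k D] [CommRing D']
    [Algebra k D'] (f : D →ₐ[k] D') (v : CoactBr.sp k D ⟶ X) (r : Γ(X.left, ⊤)) :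
    evalPt (pt f ≫ v) r = f (evalPt v r) := by
  have h : (pt f ≫ v).left.appTop ≫ (Scheme.ΓSpecIso (CommRingCat.of D')).hom =
      (v.left.appTop ≫ (Scheme.ΓSpecIso (CommRingCat.of D)).hom) ≫ CommRingCat.ofHom f.toRingHom := by
    rw [Over.comp_left, CoactBr.pt_left, Scheme.Hom.comp_appTop, Category.assoc, Category.assoc,
      Scheme.ΓSpecIso_naturality]
  exact congrArg (fun g : Γ(X.left, ⊤) ⟶ CommRingCat.of D' => g.hom r) h

theorem evalPt_map {X X' : Over (Spec (CommRingCat.of k))} {D : Type u} [CommRing D] [Algebra k D]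
    (v : CoactBr.sp k D ⟶ X) (f : X ⟶ X') (r : Γ(X'.left, ⊤)) :
    evalPt (v ≫ f) r = evalPt v (f.left.appTop.hom r) := by
  simp only [evalPt, Over.comp_left, Scheme.Hom.comp_appTop, Category.assoc]
  rfl

theorem mem_basicOpen_evalPt {X : Over (Spec (CommRingCat.of k))} {D : Type u} [CommRing D] [Algebra k D]
    (v : CoactBr.sp k D ⟶ X) (r : Γ(X.left, ⊤)) (P : PrimeSpectrum D) :
    v.left P ∈ X.left.basicOpen r ↔ evalPt v r ∉ P.asIdeal := by
  let v' : Spec (CommRingCat.of D) ⟶ X.left := v.left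
  show P ∈ v' ⁻¹ᵁ X.left.basicOpen r ↔ _
  have e : v' ⁻¹ᵁ X.left.basicOpen r =
      PrimeSpectrum.basicOpen ((Scheme.ΓSpecIso (CommRingCat.of D)).hom (v'.appTop r)) :=
    (Scheme.preimage_basicOpen_top v' r).trans (basicOpen_eq_of_affine' _)
  rw [e]
  exact Iff.rfl

variable {A : Type u} [CommRing A] [HopfAlgebra k A] [Algebra.FiniteType k A]


set_option maxHeartbeats 1000000 in
theorem isClosed_orbit (hU : HopfRep.IsUnipotent k A) (X : Over (Spec (CommRingCat.of k))) [LocallyOfFiniteType X.hom]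
    [Scheme.IsQuasiAffine X.left] (a : AlgGrp.Action (CoactBr.sp k A) X) (x : 𝟙_ (Over (Spec (CommRingCat.of k))) ⟶ X) :
    IsClosed (Set.range (a.orbitMap x).left.base) := by
  classical
  let G : Over (Spec (CommRingCat.of k)) := (CoactBr.sp k A)
  haveI hGft : LocallyOfFiniteType G.hom :=
    (HasRingHomProperty.Spec_iff (P := @LocallyOfFiniteType)).2
      (RingHom.finiteType_algebraMap.2 ‹Algebra.FiniteType k A›)
  haveI : IsAffine G.left := inferInstanceAs (IsAffine (Spec (CommRingCat.of A)))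
  haveI : IsAffineHom G.hom := isAffineHom_of_isAffine _
  haveI : Flat G.hom := Groth.L11.Magnet.flat_of_field G
  haveI : IsLocallyNoetherian X.left := LocallyOfFiniteType.isLocallyNoetherian X.hom
  haveI : AlgebraicGeometry.IsNoetherian X.left := {}
  haveI : IsSeparated X.hom := by
    haveI : IsSeparated (X.hom ≫ terminal.from _) := by
      rw [Subsingleton.elim (X.hom ≫ terminal.from _) (terminal.from X.left)]
      infer_instance
    exact IsSeparated.of_comp X.hom (terminal.from _)
  haveI : UniversallyOpen (snd G X).left := inferInstanceAs (UniversallyOpen (pullback.snd G.hom X.hom))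
  let o : G ⟶ X := a.orbitMap x
  let s := snd G X
  let orb : Set X.left := Set.range o.left.base
  -- translating a point of the orbit
  have horb : ∀ q : (G ⊗ X).left, s.left q ∈ orb → a.act.left q ∈ orb := by
    rintro q ⟨g, hg⟩
    obtain ⟨q', hq', -⟩ := Scheme.exists_preimage_of_isPullback (Groth.L18.GITQ.isPullback_whiskerLeft G o) q g hg.symm
    have e : (G ◁ o) ≫ a.act = μ[G] ≫ o := by
      rw [show (G ◁ o) = lift (fst G G) (snd G G ≫ o) from
        CartesianMonoidalCategory.hom_ext _ _ (by simp) (by simp),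
        Groth.L19.AlgGrpBasic.orbitMap_apply, Groth.L19.AlgGrpBasic.orbitMap_apply, ← Groth.L25.Actions.mul_act]
      have hid : fst G G * snd G G = μ[G] := by rw [Hom.mul_def, lift_fst_snd, Category.id_comp]
      rw [hid, toUnit_unique (toUnit (G ⊗ G)) (μ[G] ≫ toUnit G)]
    refine ⟨μ[G].left q', ?_⟩
    rw [← hq']
    exact (congrArg (fun f : (G ⊗ G) ⟶ X => f.left q') e).symm
  have horb' : ∀ q : (G ⊗ X).left, a.act.left q ∈ orb → s.left q ∈ orb := by
    intro q hq
    let σ : G ⊗ X ⟶ G ⊗ X := lift (fst G X)⁻¹ a.act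
    have h1 : σ ≫ a.act = s := by
      show lift (fst G X)⁻¹ a.act ≫ a.act = snd G X
      calc _ = lift (fst G X)⁻¹ (lift (fst G X) (snd G X) ≫ a.act) ≫ a.act := by
            rw [lift_fst_snd, Category.id_comp]
        _ = _ := by rw [← Groth.L25.Actions.mul_act, inv_mul_cancel, Groth.L25.Actions.one_act]
    have h2 : σ ≫ s = a.act := lift_snd _ _
    rw [show s.left q = a.act.left (σ.left q) from (congrArg (fun f : (G ⊗ X) ⟶ X => f.left q) h1).symm]
    exact horb _ (by rwa [show s.left (σ.left q) = a.act.left q from congrArg (fun f : (G ⊗ X) ⟶ X => f.left q) h2])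
  have hclo : ∀ q : (G ⊗ X).left, s.left q ∈ closure orb → a.act.left q ∈ closure orb := by
    intro q hq
    refine mem_closure_iff.2 fun V hV hqV => ?_
    obtain ⟨y, ⟨q', hq', rfl⟩, hy⟩ := mem_closure_iff.1 hq (s.left '' (a.act.left ⁻¹' V))
      (s.left.isOpenMap _ (hV.preimage a.act.left.continuous)) ⟨q, hqV, rfl⟩
    exact ⟨_, hq', horb q' hy⟩
  by_contra hnc
  let F : Set X.left := closure orb \ orb
  obtain ⟨y₀, hy₀⟩ : F.Nonempty := by
    refine Set.nonempty_iff_ne_empty.2 fun h => hnc ?_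
    rw [Set.sdiff_eq_empty] at h
    exact closure_subset_iff_isClosed.1 h
  -- a function on `X` which vanishes outside the orbit
  obtain ⟨h, hhF, hho⟩ : ∃ h : Γ(X.left, ⊤), (∀ y ∈ F, y ∉ X.left.basicOpen h) ∧
      ∃ y ∈ orb, y ∈ X.left.basicOpen h := by
    haveI : QuasiCompact o.left := by
      haveI : QuasiCompact (o.left ≫ X.hom) := by rw [Over.w o]; infer_instance
      exact QuasiCompact.of_comp o.left X.hom
    haveI : LocallyOfFinitePresentation o.left := by
      haveI : LocallyOfFiniteType (o.left ≫ X.hom) := by rw [Over.w o]; infer_instance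
      haveI : LocallyOfFiniteType o.left := locallyOfFiniteType_of_comp _ X.hom
      infer_instance
    have hc : Topology.IsConstructible orb := by
      show Topology.IsConstructible (Set.range o.left.base)
      rw [← Set.image_univ]
      exact o.left.isConstructible_image Topology.IsConstructible.univ
    obtain ⟨S, hSf, hSc, hSi, hS⟩ :=
      TopologicalSpace.NoetherianSpace.exists_finite_set_isClosed_irreducible (isClosed_closure (s := orb))
    have hne : S.Nonempty := by
      obtain ⟨Z, hZ, -⟩ := (Set.ext_iff.1 hS y₀).1 hy₀.1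
      exact ⟨Z, hZ⟩
    obtain ⟨Z, hZ, hmax⟩ := hSf.exists_maximal hne
    let others : Set X.left := ⋃ W ∈ S \ {Z}, W
    have hoc : IsClosed others := (hSf.subset Set.sdiff_subset).isClosed_biUnion fun W hW => hSc W hW.1
    obtain ⟨gp, hgp⟩ : ∃ gp, IsGenericPoint gp Z := QuasiSober.sober (hSi Z hZ) (hSc Z hZ)
    have hgpo : gp ∉ others := by
      intro hin
      obtain ⟨W, hW, hgpW⟩ := Set.mem_iUnion₂.1 hin
      have hZW : Z ⊆ W := by rw [← hgp.def]; exact closure_minimal (Set.singleton_subset_iff.2 hgpW) (hSc W hW.1)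
      exact hW.2 (le_antisymm (hmax hW.1 hZW) hZW)
    have hgp1 : gp ∈ closure (orb ∩ Z) := by
      have h1 : gp ∈ closure (orb ∩ othersᶜ) :=
        closure_mono (Set.inter_comm _ _).subset (hoc.isOpen_compl.inter_closure
          ⟨hgpo, (Set.ext_iff.1 hS gp).2 ⟨Z, hZ, hgp.mem⟩⟩)
      refine closure_mono ?_ h1
      rintro w ⟨hw, hwo⟩
      obtain ⟨W, hW, hwW⟩ := (Set.ext_iff.1 hS w).1 (subset_closure hw)
      rcases eq_or_ne W Z with rfl | hne
      · exact ⟨hw, hwW⟩
      · exact absurd (Set.mem_biUnion (show W ∈ S \ {Z} from ⟨hW, hne⟩) hwW) hwo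
    have hZd : Z ⊆ closure (orb ∩ Z) := by
      rw [← hgp.def]; exact closure_minimal (Set.singleton_subset_iff.2 (hgp.def.symm ▸ hgp1)) isClosed_closure
    obtain ⟨V, hV, ⟨v, hvV, hvZ⟩, hVsub⟩ := Groth.L06.Constr.exists_open_inter_subset' hc (hSi Z hZ) hZd
    have hgpV : gp ∈ V := (hgp.specializes hvZ).mem_open hV hvV
    obtain ⟨W', hW', y, hy, hyW', hW'sub⟩ : ∃ W' : Set X.left, IsOpen W' ∧ ∃ y ∈ orb, y ∈ W' ∧
        W' ∩ closure orb ⊆ orb := by
      refine ⟨V ∩ othersᶜ, hV.inter hoc.isOpen_compl, gp, hVsub ⟨hgpV, hgp.mem⟩, ⟨hgpV, hgpo⟩, ?_⟩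
      rintro w ⟨⟨hwV, hwo⟩, hwc⟩
      obtain ⟨W, hW, hwW⟩ := (Set.ext_iff.1 hS w).1 hwc
      rcases eq_or_ne W Z with rfl | hne
      · exact hVsub ⟨hwV, hwW⟩
      · exact absurd (Set.mem_biUnion (show W ∈ S \ {Z} from ⟨hW, hne⟩) hwW) hwo
    obtain ⟨_, ⟨_, ⟨r, hr, rfl⟩, rfl⟩, hyr, hrW⟩ :=
      (Scheme.IsQuasiAffine.isBasis_basicOpen X.left).exists_subset_of_mem_open hyW' hW'
    exact ⟨r, fun z hz hzr => hz.2 (hW'sub ⟨hrW hzr, hz.1⟩), y, hy, hyr⟩
  -- functions on `G ⊗ X`
  have hpush := Groth.L22.AffDesc.isPushout_appTop (IsPullback.of_hasPullback X.hom G.hom)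
  letI : Algebra k Γ(X.left, ⊤) := ((Scheme.ΓSpecIso (CommRingCat.of k)).inv ≫ X.hom.appTop).hom.toAlgebra
  letI : Algebra k Γ((G ⊗ X).left, ⊤) := ((Scheme.ΓSpecIso (CommRingCat.of k)).inv ≫ (G ⊗ X).hom.appTop).hom.toAlgebra
  have hevk : ∀ {D : Type u} [CommRing D] [Algebra k D] {Y : Over (Spec (CommRingCat.of k))}
      (v : CoactBr.sp k D ⟶ Y) (c : k),
      evalPt v (((Scheme.ΓSpecIso (CommRingCat.of k)).inv ≫ Y.hom.appTop).hom c) = algebraMap k D c := by
    intro D _ _ Y v c
    have h1 : ((Scheme.ΓSpecIso (CommRingCat.of k)).inv ≫ Y.hom.appTop) ≫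
        (v.left.appTop ≫ (Scheme.ΓSpecIso (CommRingCat.of D)).hom) = CommRingCat.ofHom (algebraMap k D) := by
      rw [Category.assoc, ← Category.assoc Y.hom.appTop, ← Scheme.Hom.comp_appTop, Over.w v]
      show _ ≫ (Spec.map (CommRingCat.ofHom (algebraMap k D))).appTop ≫ _ = _
      rw [Scheme.ΓSpecIso_naturality, Iso.inv_hom_id_assoc]
    exact congrArg (fun g : CommRingCat.of k ⟶ CommRingCat.of D => g.hom c) h1
  let R := Γ(X.left, ⊤)
  let idA : CoactBr.sp k A ⟶ G := 𝟙 _
  let fA : A →+* Γ((G ⊗ X).left, ⊤) :=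
    ((Scheme.ΓSpecIso (CommRingCat.of A)).inv ≫ (fst G X).left.appTop).hom
  let fR : R →+* Γ((G ⊗ X).left, ⊤) := s.left.appTop.hom
  let hA : A →ₐ[k] Γ((G ⊗ X).left, ⊤) :=
    { fA with
      commutes' := fun c => by
        show fA (algebraMap k A c) = ((Scheme.ΓSpecIso (CommRingCat.of k)).inv ≫ (G ⊗ X).hom.appTop).hom c
        rw [← Over.w (fst G X), Scheme.Hom.comp_appTop, ← Category.assoc]
        show _ = (((Scheme.ΓSpecIso (CommRingCat.of k)).inv ≫ (Spec.map (CommRingCat.ofHom (algebraMap k A))).appTop) ≫ _).hom c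
        rw [← Scheme.ΓSpecIso_inv_naturality]
        rfl }
  let hR : R →ₐ[k] Γ((G ⊗ X).left, ⊤) :=
    { fR with
      commutes' := fun c => by
        show fR (((Scheme.ΓSpecIso (CommRingCat.of k)).inv ≫ X.hom.appTop).hom c) =
          ((Scheme.ΓSpecIso (CommRingCat.of k)).inv ≫ (G ⊗ X).hom.appTop).hom c
        rw [← Over.w s, Scheme.Hom.comp_appTop]
        rfl }
  let Θ : A ⊗[k] R →ₐ[k] Γ((G ⊗ X).left, ⊤) := Algebra.TensorProduct.lift hA hR fun _ _ => Commute.all _ _
  have hΘ : Function.Surjective Θ := by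
    rw [← AlgHom.range_eq_top]
    refine eq_top_iff.2 fun z _ => ?_
    let e : (G ⊗ X).left ≅ pullback X.hom G.hom := pullbackSymmetry G.hom X.hom
    have hz : e.inv.appTop.hom z ∈ Subring.closure (Set.range (pullback.fst X.hom G.hom).appTop.hom ∪
        Set.range (pullback.snd X.hom G.hom).appTop.hom) := by
      have h0 := CommRingCat.closure_range_union_range_eq_top_of_isPushout hpush
      exact h0 ▸ Subring.mem_top _
    have key : ∀ w, w ∈ Subring.closure (Set.range (pullback.fst X.hom G.hom).appTop.hom ∪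
        Set.range (pullback.snd X.hom G.hom).appTop.hom) → e.hom.appTop.hom w ∈ Θ.range := by
      intro w hw
      induction hw using Subring.closure_induction with
      | mem w hw =>
        rcases hw with ⟨r, rfl⟩ | ⟨g, rfl⟩
        · refine ⟨(1 : A) ⊗ₜ[k] r, ?_⟩
          refine (Algebra.TensorProduct.lift_tmul _ _ _ _ _).trans ?_
          rw [map_one, _root_.one_mul]
          show s.left.appTop.hom r = ((pullback.fst X.hom G.hom).appTop ≫ e.hom.appTop).hom r
          rw [← Scheme.Hom.comp_appTop, show e.hom ≫ pullback.fst X.hom G.hom = s.left from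
            pullbackSymmetry_hom_comp_fst _ _]
        · refine ⟨((Scheme.ΓSpecIso (CommRingCat.of A)).hom.hom g) ⊗ₜ[k] (1 : R), ?_⟩
          refine (Algebra.TensorProduct.lift_tmul _ _ _ _ _).trans ?_
          rw [map_one, _root_.mul_one]
          show ((Scheme.ΓSpecIso (CommRingCat.of A)).hom ≫ (Scheme.ΓSpecIso (CommRingCat.of A)).inv ≫
            (fst G X).left.appTop).hom g = ((pullback.snd X.hom G.hom).appTop ≫ e.hom.appTop).hom g
          rw [Iso.hom_inv_id_assoc, ← Scheme.Hom.comp_appTop, show e.hom ≫ pullback.snd X.hom G.hom = (fst G X).left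
            from pullbackSymmetry_hom_comp_snd _ _]
          rfl
      | zero => rw [map_zero]; exact zero_mem _
      | one => rw [map_one]; exact one_mem _
      | add _ _ _ _ h1 h2 => rw [map_add]; exact add_mem h1 h2
      | neg _ _ h1 => rw [map_neg]; exact neg_mem h1
      | mul _ _ _ _ h1 h2 => rw [map_mul]; exact mul_mem h1 h2
    have := key _ hz
    rwa [show e.hom.appTop.hom (e.inv.appTop.hom z) = z from by
      show (e.inv.appTop ≫ e.hom.appTop).hom z = z
      rw [← Scheme.Hom.comp_appTop, e.hom_inv_id, Scheme.Hom.id_appTop]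
      rfl] at this
  -- evaluation of a decomposed function at a pair of points
  have hdec : ∀ {D : Type u} [CommRing D] [Algebra k D] (v : CoactBr.sp k D ⟶ X) (t : A ⊗[k] R),
      evalPt (lift (pt (Algebra.TensorProduct.includeLeft : A →ₐ[k] A ⊗[k] D))
        (pt (Algebra.TensorProduct.includeRight : D →ₐ[k] A ⊗[k] D) ≫ v)) (Θ t) =
        TensorProduct.map (LinearMap.id (R := k) (M := A))
          { toFun := evalPt v, map_add' := map_add _,
            map_smul' := fun c r => by rw [Algebra.smul_def, map_mul, Algebra.smul_def]; exact congrArg (· * _) (hevk v c) } t := by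
    intro D _ _ v t
    induction t with
    | zero => rw [map_zero, map_zero, map_zero]
    | add t t' ht ht' => simp only [map_add, ht, ht']
    | tmul g r =>
      rw [Algebra.TensorProduct.lift_tmul, map_mul, TensorProduct.map_tmul]
      show _ = g ⊗ₜ[k] evalPt v r
      have e1 : evalPt (lift (pt (Algebra.TensorProduct.includeLeft : A →ₐ[k] A ⊗[k] D))
          (pt (Algebra.TensorProduct.includeRight : D →ₐ[k] A ⊗[k] D) ≫ v)) (hA g) = g ⊗ₜ[k] (1 : D) := by
        show evalPt _ ((fst G X).left.appTop.hom ((Scheme.ΓSpecIso (CommRingCat.of A)).inv.hom g)) = _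
        rw [← evalPt_map, lift_fst]
        have h1 := evalPt_comp (Algebra.TensorProduct.includeLeft : A →ₐ[k] A ⊗[k] D) idA
          ((Scheme.ΓSpecIso (CommRingCat.of A)).inv.hom g)
        rw [show pt (Algebra.TensorProduct.includeLeft : A →ₐ[k] A ⊗[k] D) ≫ idA = _ from Category.comp_id _] at h1
        refine h1.trans ?_
        have h2 : evalPt idA ((Scheme.ΓSpecIso (CommRingCat.of A)).inv.hom g) = g := by
          show ((Scheme.ΓSpecIso (CommRingCat.of A)).inv ≫ Scheme.Hom.appTop (𝟙 (Spec (CommRingCat.of A))) ≫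
            (Scheme.ΓSpecIso (CommRingCat.of A)).hom).hom g = g
          rw [Scheme.Hom.id_appTop, Category.id_comp, Iso.inv_hom_id]
          rfl
        rw [h2]; rfl
      have e2 : evalPt (lift (pt (Algebra.TensorProduct.includeLeft : A →ₐ[k] A ⊗[k] D))
          (pt (Algebra.TensorProduct.includeRight : D →ₐ[k] A ⊗[k] D) ≫ v)) (hR r) = (1 : A) ⊗ₜ[k] evalPt v r := by
        show evalPt _ (s.left.appTop.hom r) = _
        rw [← evalPt_map, lift_snd, evalPt_comp]
        rfl
      rw [e1, e2, Algebra.TensorProduct.tmul_mul_tmul, _root_.mul_one, _root_.one_mul]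
  let oA : CoactBr.sp k A ⟶ X := o
  let evL : ∀ {D : Type u} [CommRing D] [Algebra k D] (v : CoactBr.sp k D ⟶ X), R →ₗ[k] D := fun v =>
    { toFun := evalPt v, map_add' := map_add _,
      map_smul' := fun c r => by rw [Algebra.smul_def, map_mul, Algebra.smul_def]; exact congrArg (· * _) (hevk v c) }
  -- the coaction is compatible with the comultiplication along the orbit
  have hcoact : ∀ (r : R) (t : A ⊗[k] R), Θ t = a.act.left.appTop.hom r →
      TensorProduct.map LinearMap.id (evL oA) t = Coalgebra.comul (R := k) (evalPt oA r) := by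
    intro r t ht
    refine ((hdec oA t).symm.trans (congrArg _ ht)).trans ?_
    rw [← evalPt_map]
    let iL : A →ₐ[k] A ⊗[k] A := Algebra.TensorProduct.includeLeft
    let iR : A →ₐ[k] A ⊗[k] A := Algebra.TensorProduct.includeRight
    have h1 : lift (pt iL : CoactBr.sp k (A ⊗[k] A) ⟶ G) (pt iR ≫ oA) ≫ a.act =
        pt (Bialgebra.comulAlgHom k A) ≫ oA := by
      have h2 : (pt (Bialgebra.comulAlgHom k A) : CoactBr.sp k (A ⊗[k] A) ⟶ G) =
          (pt iL : CoactBr.sp k (A ⊗[k] A) ⟶ G) * pt iR := by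
        have hconv : toConv (Bialgebra.comulAlgHom k A) = toConv iL * toConv iR := by
          refine WithConv.ofConv_injective (AlgHom.ext fun c => ?_)
          rw [AlgHom.convMul_apply]
          show Coalgebra.comul (R := k) c = _
          induction Coalgebra.comul (R := k) c with
          | zero => simp
          | add p q hp hq => simp only [map_add, ← hp, ← hq]
          | tmul p q => simp [iL, iR]
        have htp : ∀ f : A →ₐ[k] A ⊗[k] A, (pt f : CoactBr.sp k (A ⊗[k] A) ⟶ G) = toPt (toConv f) := fun f =>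
          Over.OverMorphism.ext rfl
        rw [htp, htp, htp, hconv]
        exact map_mul _ _ _
      rw [h2]
      show lift (pt iL) ((pt iR : CoactBr.sp k (A ⊗[k] A) ⟶ G) ≫ a.orbitMap x) ≫ a.act = _ ≫ a.orbitMap x
      rw [Groth.L19.AlgGrpBasic.orbitMap_apply, Groth.L19.AlgGrpBasic.orbitMap_apply, ← Groth.L25.Actions.mul_act]
    rw [h1, evalPt_comp]
    rfl
  -- finitely many points test vanishing on `F`
  obtain ⟨T, hTf, hTc, hTi, hT⟩ :=
    TopologicalSpace.NoetherianSpace.exists_finite_set_isClosed_irreducible (isClosed_closure (s := F))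
  have hgen : ∀ Z : T, ∃ gp, IsGenericPoint gp (Z : Set X.left) := fun Z => QuasiSober.sober (hTi _ Z.2) (hTc _ Z.2)
  choose gp hgp using hgen
  haveI : Finite T := hTf.to_subtype
  -- the translates of a power of `h` vanish at these points
  obtain ⟨th, hth⟩ := hΘ (a.act.left.appTop.hom h)
  have hκ : ∀ Z : T, ∃ (D : Type u) (_ : Field D) (_ : Algebra k D) (v : CoactBr.sp k D ⟶ X),
      ∀ P, v.left P = gp Z := by
    intro Z
    let φ : CommRingCat.of k ⟶ X.left.residueField (gp Z) :=
      Spec.preimage (X.left.fromSpecResidueField (gp Z) ≫ X.hom)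
    letI : Algebra k (X.left.residueField (gp Z)) := φ.hom.toAlgebra
    refine ⟨X.left.residueField (gp Z), inferInstance, inferInstance,
      Over.homMk (X.left.fromSpecResidueField (gp Z)) ?_, fun P => ?_⟩
    · exact (Spec.map_preimage (X.left.fromSpecResidueField (gp Z) ≫ X.hom)).symm
    · have : X.left.fromSpecResidueField (gp Z) P ∈ Set.range (X.left.fromSpecResidueField (gp Z)) := ⟨P, rfl⟩
      rw [X.left.range_fromSpecResidueField] at this
      exact this
  choose D iD iDk v hv using hκ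
  have hnil : ∀ Z : T, IsNilpotent (TensorProduct.map LinearMap.id (evL (v Z)) th) := by
    intro Z
    refine nilpotent_iff_mem_prime.2 fun P hP => ?_
    by_contra hnot
    let P' : PrimeSpectrum (A ⊗[k] D Z) := ⟨P, hP⟩
    let w : CoactBr.sp k (A ⊗[k] D Z) ⟶ G ⊗ X :=
      lift (pt (Algebra.TensorProduct.includeLeft : A →ₐ[k] A ⊗[k] D Z))
        (pt (Algebra.TensorProduct.includeRight : D Z →ₐ[k] A ⊗[k] D Z) ≫ v Z)
    have hw : w.left P' ∈ (G ⊗ X).left.basicOpen (a.act.left.appTop.hom h) := by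
      rw [mem_basicOpen_evalPt, ← hth, hdec]
      exact hnot
    have hs : s.left (w.left P') = gp Z := by
      have e := lift_snd (pt (Algebra.TensorProduct.includeLeft : A →ₐ[k] A ⊗[k] D Z))
        (pt (Algebra.TensorProduct.includeRight : D Z →ₐ[k] A ⊗[k] D Z) ≫ v Z)
      exact (congrArg (fun f : CoactBr.sp k (A ⊗[k] D Z) ⟶ X => f.left P') e).trans (hv Z _)
    have hgpF : gp Z ∈ closure F := (Set.ext_iff.1 hT (gp Z)).2 ⟨Z.1, Z.2, (hgp Z).mem⟩
    obtain ⟨y, ⟨q, hq, rfl⟩, hy⟩ := mem_closure_iff.1 hgpF (s.left '' ((G ⊗ X).left.basicOpen (a.act.left.appTop.hom h) : Set _))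
      (s.left.isOpenMap _ ((G ⊗ X).left.basicOpen (a.act.left.appTop.hom h)).isOpen) ⟨w.left P', hw, hs⟩
    have hq' : a.act.left q ∈ X.left.basicOpen h := by
      have : q ∈ a.act.left ⁻¹ᵁ X.left.basicOpen h := by rw [Scheme.preimage_basicOpen_top]; exact hq
      exact this
    exact hhF _ ⟨hclo q hy.1, fun ho => hy.2 (horb' q ho)⟩ hq'
  choose n hn using hnil
  haveI := Fintype.ofFinite T
  obtain ⟨N, hN⟩ : ∃ N, ∀ Z, n Z ≤ N := ⟨Finset.univ.sup n, fun Z => Finset.le_sup (Finset.mem_univ Z)⟩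
  -- the translates
  let hφ : (A →ₗ[k] k) → R := fun φ => TensorProduct.lid k R (φ.rTensor R (th ^ N))
  have hev : ∀ (D' : Type u) [CommRing D'] [Algebra k D'] (v' : CoactBr.sp k D' ⟶ X) (φ : A →ₗ[k] k),
      evalPt v' (hφ φ) = TensorProduct.lid k D' (φ.rTensor D' (TensorProduct.map LinearMap.id (evL v') (th ^ N))) := by
    intro D' _ _ v' φ
    show evL v' (TensorProduct.lid k R (φ.rTensor R (th ^ N))) = _
    induction th ^ N with
    | zero => simp
    | add p q hp hq => simp only [map_add, hp, hq]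
    | tmul p q => simp
  have hpow : ∀ (D' : Type u) [CommRing D'] [Algebra k D'] (v' : CoactBr.sp k D' ⟶ X) (m : ℕ),
      TensorProduct.map LinearMap.id (evL v') (th ^ m) = TensorProduct.map LinearMap.id (evL v') th ^ m := by
    intro D' _ _ v' m
    rw [← hdec, ← hdec, map_pow, map_pow]
  let M : Submodule k A :=
    { carrier := {b | ∃ r : R, (∀ y ∈ F, y ∉ X.left.basicOpen r) ∧ evalPt oA r = b}
      zero_mem' := ⟨0, fun y _ => by simp, map_zero _⟩
      add_mem' := by
        rintro _ _ ⟨r, hr, rfl⟩ ⟨r', hr', rfl⟩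
        refine ⟨r + r', fun y hy hyr => ?_, map_add _ _ _⟩
        rcases (X.left.basicOpen_add_le r r' hyr : y ∈ X.left.basicOpen r ⊔ X.left.basicOpen r') with h1 | h1
        exacts [hr y hy h1, hr' y hy h1]
      smul_mem' := by
        rintro c _ ⟨r, hr, rfl⟩
        refine ⟨c • r, fun y hy hyr => ?_, map_smul (evL oA) c r⟩
        rw [Algebra.smul_def, Scheme.basicOpen_mul] at hyr
        exact hr y hy hyr.2 }
  have hM : ∀ φ : A →ₗ[k] k, lAct φ (evalPt oA h ^ N) ∈ M := by
    intro φ
    refine ⟨hφ φ, fun y hy hyr => ?_, ?_⟩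
    · obtain ⟨Z, hZ, hyZ⟩ := (Set.ext_iff.1 hT y).1 (subset_closure hy)
      have hgpr : gp ⟨Z, hZ⟩ ∈ X.left.basicOpen (hφ φ) :=
        ((hgp ⟨Z, hZ⟩).specializes hyZ).mem_open (X.left.basicOpen (hφ φ)).isOpen hyr
      obtain ⟨P⟩ : Nonempty (PrimeSpectrum (D ⟨Z, hZ⟩)) := inferInstance
      rw [← hv ⟨Z, hZ⟩ P, mem_basicOpen_evalPt, hev] at hgpr
      refine hgpr ?_
      rw [hpow, pow_eq_zero_of_le (hN _) (hn _), map_zero, map_zero]
      exact zero_mem _
    · rw [hev]
      have e : TensorProduct.map LinearMap.id (evL oA) (th ^ N) = Coalgebra.comul (R := k) (evalPt oA (h ^ N)) :=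
        hcoact _ _ (by rw [map_pow, map_pow, hth])
      rw [e, map_pow]
      rfl
  have hne : evalPt oA h ^ N ≠ 0 := by
    intro h0
    obtain ⟨_, ⟨g, rfl⟩, hg⟩ := hho
    have h1 := (mem_basicOpen_evalPt oA h g).1 hg
    exact h1 (g.isPrime.mem_of_pow_mem N (h0 ▸ zero_mem _))
  obtain ⟨c, hc, r, hr, hrc⟩ := exists_const_mem hU M hne hM
  -- `r` agrees with the constant `c` on the orbit, hence on its closure
  let r' : R := r - ((Scheme.ΓSpecIso (CommRingCat.of k)).inv ≫ X.hom.appTop).hom c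
  have hsub : orb ⊆ (X.left.basicOpen r' : Set X.left)ᶜ := by
    rintro _ ⟨g, rfl⟩ hgr
    refine (mem_basicOpen_evalPt oA r' g).1 hgr ?_
    rw [map_sub, hevk, hrc, sub_self]
    exact zero_mem _
  have hy' : y₀ ∉ X.left.basicOpen r' := closure_minimal hsub (X.left.basicOpen r').isOpen.isClosed_compl hy₀.1
  have hcu : IsUnit (((Scheme.ΓSpecIso (CommRingCat.of k)).inv ≫ X.hom.appTop).hom c) := (Ne.isUnit hc).map _
  refine (show y₀ ∉ X.left.basicOpen r from hr y₀ hy₀) ?_
  have hmem : y₀ ∈ X.left.basicOpen (((Scheme.ΓSpecIso (CommRingCat.of k)).inv ≫ X.hom.appTop).hom c) := by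
    rw [X.left.basicOpen_of_isUnit hcu]; trivial
  have hr0 := (X.left.evaluation_eq_zero_iff_notMem_basicOpen y₀ (show y₀ ∈ (⊤ : X.left.Opens) from trivial) r').2 hy'
  rw [map_sub, sub_eq_zero] at hr0
  rw [← X.left.evaluation_ne_zero_iff_mem_basicOpen y₀ (show y₀ ∈ (⊤ : X.left.Opens) from trivial), hr0]
  exact (X.left.evaluation_ne_zero_iff_mem_basicOpen y₀ (show y₀ ∈ (⊤ : X.left.Opens) from trivial) _).2 hmem

end Groth.L16.UnipOrbit
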