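import Groth.Agent.L16.UnipOrbit.Coideal
import Groth.Agent.L08.Luna.SubalgRep
import Groth.Prelude.Def_GLin
import Mathlib.RingTheory.Spectrum.Prime.Chevalley
import Mathlib.RingTheory.Spectrum.Prime.Noetherian
import Mathlib.RingTheory.Ideal.MinimalPrime.Noetherian
import Mathlib.RingTheory.Ideal.MinimalPrime.Localization
import Mathlib.RingTheory.Flat.FaithfullyFlat.Algebra
import Mathlib.RingTheory.Bialgebra.Convolution
import Mathlib.RingTheory.HopfAlgebra.Convolution
import Mathlib.RingTheory.Adjoin.FG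

/-!
# Orbits of pro-unipotent groups on affine schemes are closed
-/

set_option autoImplicit false
set_option linter.style.haveILetI false
set_option linter.unusedSectionVars false

universe u

open TensorProduct WithConv PrimeSpectrum
open Groth.L08 (fAct)

noncomputable section

namespace Groth.L16.UnipOrbit

variable {k : Type u} [Field k] {H : Type u} [CommRing H] [HopfAlgebra k H]

/-- A nonzero element all of whose translates lie in `M` forces a nonzero constant in `M`. -/
theorem exists_const_mem_right (hU : HopfRep.IsUnipotent k H) (M : Submodule k H) {a : H} (ha : a ≠ 0)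
    (hM : ∀ φ : H →ₗ[k] k, fAct H φ a ∈ M) : ∃ c : k, c ≠ 0 ∧ algebraMap k H c ∈ M := by
  classical
  let W : Set H := {v | ∀ φ : H →ₗ[k] k, fAct H φ v ∈ M}
  have hW : ∀ v ∈ W, ∀ φ : H →ₗ[k] k, fAct H φ v ∈ W := by
    intro v hv φ ψ
    rw [← LinearMap.comp_apply (fAct H ψ), ← Groth.L08.fAct_comp]
    exact hv _
  obtain ⟨m, F, h0, hm, hst⟩ := Groth.L08.hasFlag_of_isUnipotent hU a
  have hex : ∃ i, ∃ v ∈ F i, v ∈ W ∧ v ≠ 0 := ⟨m, _, hm, hM, ha⟩
  obtain ⟨v, hv, hvW, hv0⟩ := Nat.find_spec hex
  obtain ⟨j, hj⟩ : ∃ j, Nat.find hex = j + 1 := by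
    refine Nat.exists_eq_succ_of_ne_zero fun h => hv0 ?_
    rwa [h, h0, Submodule.mem_bot] at hv
  rw [hj] at hv
  obtain ⟨g, rfl, hstep⟩ := hst j
  have hfix : ∀ φ : H →ₗ[k] k, fAct H φ v = φ 1 • v := by
    intro φ
    rw [← sub_eq_zero]
    by_contra hne
    refine Nat.find_min hex (m := j) (by omega) ⟨_, hstep v hv φ, fun ψ => ?_, hne⟩
    rw [map_sub, map_smul]
    exact sub_mem (hW v hvW φ ψ) (M.smul_mem _ (hvW ψ))
  have hscal : v = algebraMap k H (Coalgebra.counit (R := k) v) := by
    by_contra hne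
    obtain ⟨φ, hφ⟩ : ∃ φ : Module.Dual k H, φ (v - algebraMap k H (Coalgebra.counit (R := k) v)) ≠ 0 := by
      by_contra! h0'
      exact hne (sub_eq_zero.1 ((Module.forall_dual_apply_eq_zero_iff k _).1 h0'))
    refine hφ ?_
    have h1 := congrArg (Coalgebra.counit (R := k)) (hfix φ)
    rw [map_smul, smul_eq_mul] at h1
    have h3 : Coalgebra.counit (R := k) (fAct H φ v) = φ v := by
      have h := Groth.L08.apply_cf (A := H) φ (Coalgebra.counit (R := k)) v
      rw [← h, Groth.L08.cf_counit_apply]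
    rw [h3] at h1
    rw [map_sub, Algebra.algebraMap_eq_smul_one, map_smul, smul_eq_mul, h1, mul_comm, sub_self]
  refine ⟨Coalgebra.counit (R := k) v, fun h => hv0 (by rw [hscal, h, map_zero]), ?_⟩
  have h := hvW (Coalgebra.counit (R := k))
  rwa [Groth.L08.fAct_counit, LinearMap.id_apply, hscal] at h

/-- Around a minimal prime of `I`, a constructible set contains a basic open piece of `V(I)`. -/
theorem exists_basicOpen_inter_subset {R : Type*} [CommRing R] [IsNoetherianRing R] (I : Ideal R)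
    {s : Set (PrimeSpectrum R)} (hs : Topology.IsConstructible s) (P : PrimeSpectrum R)
    (hP : P.asIdeal ∈ I.minimalPrimes) (hPs : P ∈ s) :
    ∃ g, g ∉ P.asIdeal ∧ ∀ Q : PrimeSpectrum R, g ∉ Q.asIdeal → I ≤ Q.asIdeal → Q ∈ s := by
  classical
  obtain ⟨S, rfl⟩ := exists_constructibleSetData_iff.mpr hs
  obtain ⟨C, hC, hPg, hPf⟩ := Set.mem_iUnion₂.1 hPs
  have hfin := Ideal.finite_minimalPrimes_of_isNoetherianRing R I
  have hex : ∀ p : {p // p ∈ hfin.toFinset.erase P.asIdeal}, ∃ x ∈ p.1, x ∉ P.asIdeal := fun p => by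
    obtain ⟨hne, hp⟩ := Finset.mem_erase.1 p.2
    have hp' : p.1 ∈ I.minimalPrimes := hfin.mem_toFinset.1 hp
    exact Set.not_subset.1 fun hle => hne (le_antisymm hle (hP.2 hp'.1 hle))
  choose x hx1 hx2 using hex
  refine ⟨C.f * ∏ p, x p, fun h => ?_, fun Q hQ hIQ => Set.mem_iUnion₂.2 ⟨C, hC, ?_, ?_⟩⟩
  · rcases P.isPrime.mem_or_mem h with h | h
    · exact hPf (by simpa using h)
    · obtain ⟨p, -, hp⟩ := P.isPrime.prod_mem_iff.1 h
      exact hx2 p hp
  · obtain ⟨p, hp, hpQ⟩ := Ideal.exists_minimalPrimes_le hIQ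
    by_cases hpP : p = P.asIdeal
    · intro y hy
      exact hpQ (hpP ▸ hPg hy)
    · refine absurd (Ideal.mul_mem_left _ _ ?_) hQ
      exact Q.isPrime.prod_mem_iff.2
        ⟨⟨p, Finset.mem_erase.2 ⟨hpP, hfin.mem_toFinset.2 hp⟩⟩, Finset.mem_univ _, hpQ (hx1 ⟨p, Finset.mem_erase.2 ⟨hpP, hfin.mem_toFinset.2 hp⟩⟩)⟩
  · intro hf
    exact hQ (Ideal.mul_mem_right _ _ (by simpa using hf))

section Orbit

variable {R : Type u} [CommRing R] [Algebra k R] [HopfRep.Comod k H R] [GLin.IsCoactAlg k H R]

variable (x : R →ₐ[k] k)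

local notation "o" => GLin.orbitHom k H x
local notation "δ" => GLin.coactAlgHom k H R

theorem orbitHom_eq (r : R) :
    o r = TensorProduct.lid k H (x.toLinearMap.rTensor H (δ r)) := rfl

/-- The orbit morphism is equivariant. -/
theorem comul_orbitHom (r : R) :
    Coalgebra.comul (R := k) (o r) = Algebra.TensorProduct.map o (AlgHom.id k H) (δ r) := by
  let T : R ⊗[k] (H ⊗[k] H) →ₗ[k] H ⊗[k] H :=
    (TensorProduct.lid k (H ⊗[k] H)).toLinearMap ∘ₗ x.toLinearMap.rTensor (H ⊗[k] H)
  have h1 : ∀ y : R ⊗[k] H, T ((Coalgebra.comul (R := k)).lTensor R y) =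
      Coalgebra.comul (R := k) (TensorProduct.lid k H (x.toLinearMap.rTensor H y)) := by
    intro y
    induction y with
    | zero => simp
    | add a b ha hb => simp only [map_add, ha, hb]
    | tmul s h => simp [T]
  have h2 : ∀ y : R ⊗[k] H, T (TensorProduct.assoc k R H H
      ((HopfRep.Comod.coact (k := k) (A := H) : R →ₗ[k] R ⊗[k] H).rTensor H y)) =
      Algebra.TensorProduct.map o (AlgHom.id k H) y := by
    intro y
    induction y with
    | zero => simp
    | add a b ha hb => simp only [map_add, ha, hb]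
    | tmul s h =>
      rw [LinearMap.rTensor_tmul, Algebra.TensorProduct.map_tmul, AlgHom.id_apply, orbitHom_eq,
        GLin.coactAlgHom_apply]
      induction HopfRep.Comod.coact (k := k) (A := H) s with
      | zero => simp
      | add a b ha hb => simp only [map_add, TensorProduct.add_tmul, ha, hb]
      | tmul s' h' => simp [T, TensorProduct.smul_tmul']
  rw [orbitHom_eq, ← h1, GLin.coactAlgHom_apply, ← Groth.L08.coassoc_apply, h2]

theorem fAct_orbitHom (φ : H →ₗ[k] k) (r : R) : o (fAct R φ r) = fAct H φ (o r) := by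
  rw [Groth.L08.fAct_apply, Groth.L08.fAct_apply]
  show _ = TensorProduct.rid k H (φ.lTensor H (Coalgebra.comul (R := k) (o r)))
  rw [comul_orbitHom, GLin.coactAlgHom_apply]
  induction HopfRep.Comod.coact (k := k) (A := H) r with
  | zero => simp
  | add a b ha hb => simp only [map_add, ha, hb]
  | tmul s h => simp

/-- The point `a` moved by `h`. -/
def pmul {D : Type u} [CommRing D] [Algebra k D] (a : R →ₐ[k] D) (h : H →ₐ[k] D) : R →ₐ[k] D :=
  (Algebra.TensorProduct.lift a h fun _ _ => Commute.all _ _).comp δ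

omit x in
theorem pmul_pmul {D : Type u} [CommRing D] [Algebra k D] (a : R →ₐ[k] D) (h h' : H →ₐ[k] D) :
    pmul (pmul a h) h' = pmul a (toConv h * toConv h').ofConv := by
  refine AlgHom.ext fun r => ?_
  let Φ : R ⊗[k] (H ⊗[k] H) →ₐ[k] D := Algebra.TensorProduct.lift a
    (Algebra.TensorProduct.lift h h' fun _ _ => Commute.all _ _) fun _ _ => Commute.all _ _
  have h1 : ∀ y : R ⊗[k] H, Φ (TensorProduct.assoc k R H H
      ((HopfRep.Comod.coact (k := k) (A := H) : R →ₗ[k] R ⊗[k] H).rTensor H y)) =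
      Algebra.TensorProduct.lift (pmul a h) h' (fun _ _ => Commute.all _ _) y := by
    intro y
    induction y with
    | zero => simp
    | add p q hp hq => simp only [map_add, hp, hq]
    | tmul s g =>
      rw [LinearMap.rTensor_tmul, Algebra.TensorProduct.lift_tmul]
      show _ = Algebra.TensorProduct.lift a h (fun _ _ => Commute.all _ _) (HopfRep.Comod.coact (k := k) (A := H) s) * h' g
      induction HopfRep.Comod.coact (k := k) (A := H) s with
      | zero => simp
      | add p q hp hq => simp only [map_add, TensorProduct.add_tmul, hp, hq, _root_.add_mul]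
      | tmul s' g' => simp [Φ, mul_assoc]
  have h2 : ∀ y : R ⊗[k] H, Φ ((Coalgebra.comul (R := k)).lTensor R y) =
      Algebra.TensorProduct.lift a (toConv h * toConv h').ofConv (fun _ _ => Commute.all _ _) y := by
    intro y
    induction y with
    | zero => simp
    | add p q hp hq => simp only [map_add, hp, hq]
    | tmul s g =>
      rw [LinearMap.lTensor_tmul, Algebra.TensorProduct.lift_tmul, Algebra.TensorProduct.lift_tmul,
        AlgHom.convMul_apply]
  show Algebra.TensorProduct.lift (pmul a h) h' (fun _ _ => Commute.all _ _) (δ r) =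
    Algebra.TensorProduct.lift a (toConv h * toConv h').ofConv (fun _ _ => Commute.all _ _) (δ r)
  rw [← h1, ← h2, GLin.coactAlgHom_apply, Groth.L08.coassoc_apply]

omit x in
theorem pmul_one {D : Type u} [CommRing D] [Algebra k D] (a : R →ₐ[k] D) :
    pmul a (1 : WithConv (H →ₐ[k] D)).ofConv = a := by
  refine AlgHom.ext fun r => ?_
  have h1 : ∀ y : R ⊗[k] H,
      Algebra.TensorProduct.lift a (1 : WithConv (H →ₐ[k] D)).ofConv (fun _ _ => Commute.all _ _) y =
        a (TensorProduct.rid k R ((Coalgebra.counit (R := k)).lTensor R y)) := by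
    intro y
    induction y with
    | zero => simp
    | add p q hp hq => simp only [map_add, hp, hq]
    | tmul s g => simp [Algebra.smul_def, mul_comm]
  show Algebra.TensorProduct.lift a _ (fun _ _ => Commute.all _ _) (δ r) = a r
  rw [h1, GLin.coactAlgHom_apply, Groth.L08.counit_apply]
  simp

theorem convMul_comp_antipode {D : Type u} [CommRing D] [Algebra k D] (h : H →ₐ[k] D) :
    toConv h * toConv (h.comp (HopfAlgebra.antipodeAlgHom k H)) = 1 := by
  refine WithConv.ofConv_injective (AlgHom.ext fun c => ?_)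
  rw [AlgHom.convMul_apply]
  have h1 : ∀ y : H ⊗[k] H, Algebra.TensorProduct.lift h
      (h.comp (HopfAlgebra.antipodeAlgHom k H)) (fun _ _ => Commute.all _ _) y =
      h (LinearMap.mul' k H ((HopfAlgebraStruct.antipode (R := k)).lTensor H y)) := by
    intro y
    induction y with
    | zero => simp
    | add p q hp hq => simp only [map_add, hp, hq]
    | tmul p q => simp
  refine (h1 _).trans ?_
  rw [HopfAlgebra.mul_antipode_lTensor_comul_apply, h.commutes]
  rfl

theorem comp_orbitHom {D : Type u} [CommRing D] [Algebra k D] (g : H →ₐ[k] D) :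
    g.comp o = pmul ((Algebra.ofId k D).comp x) g := by
  refine AlgHom.ext fun r => ?_
  show g (o r) = Algebra.TensorProduct.lift ((Algebra.ofId k D).comp x) g (fun _ _ => Commute.all _ _) (δ r)
  rw [orbitHom_eq]
  induction δ r with
  | zero => simp
  | add p q hp hq => simp only [map_add, hp, hq]
  | tmul s h => simp [Algebra.smul_def]

/-- A pair of fields over a ring with the same kernel embeds in a common field. -/
theorem exists_field_comp_eq {K K' : Type u} [Field K] [Field K'] [Algebra k K] [Algebra k K']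
    (u : R →ₐ[k] K) (v : R →ₐ[k] K') (h : RingHom.ker u = RingHom.ker v) :
    ∃ (L : Type u) (_ : Field L) (_ : Algebra k L) (i : K →ₐ[k] L) (j : K' →ₐ[k] L), i.comp u = j.comp v := by
  let p : Ideal R := RingHom.ker u
  haveI : p.IsPrime := RingHom.ker_isPrime u
  have hu : ∀ y ∈ p.primeCompl, IsUnit (u y) := fun y hy => Ne.isUnit hy
  have hv : ∀ y ∈ p.primeCompl, IsUnit (v y) := fun y hy => by
    refine Ne.isUnit fun h0 => hy ?_
    show y ∈ p
    rw [show p = RingHom.ker v from h]
    exact h0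
  letI : Algebra p.ResidueField K := (Ideal.ResidueField.lift p u.toRingHom le_rfl hu).toAlgebra
  letI : Algebra p.ResidueField K' := (Ideal.ResidueField.lift p v.toRingHom h.le hv).toAlgebra
  haveI : IsScalarTower k p.ResidueField K := IsScalarTower.of_algebraMap_eq fun c => by
    show _ = Ideal.ResidueField.lift p u.toRingHom le_rfl hu (algebraMap k p.ResidueField c)
    rw [IsScalarTower.algebraMap_apply k R p.ResidueField, Ideal.ResidueField.lift_algebraMap]
    exact (u.commutes c).symm
  haveI : IsScalarTower k p.ResidueField K' := IsScalarTower.of_algebraMap_eq fun c => by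
    show _ = Ideal.ResidueField.lift p v.toRingHom h.le hv (algebraMap k p.ResidueField c)
    rw [IsScalarTower.algebraMap_apply k R p.ResidueField, Ideal.ResidueField.lift_algebraMap]
    exact (v.commutes c).symm
  obtain ⟨m, hm⟩ := Ideal.exists_maximal (K ⊗[p.ResidueField] K')
  letI := Ideal.Quotient.field m
  let q : K ⊗[p.ResidueField] K' →ₐ[p.ResidueField] (K ⊗[p.ResidueField] K') ⧸ m := Ideal.Quotient.mkₐ _ m
  let i := q.comp (Algebra.TensorProduct.includeLeft (R := p.ResidueField) (S := p.ResidueField))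
  let j := q.comp (Algebra.TensorProduct.includeRight (R := p.ResidueField))
  refine ⟨_, inferInstance, inferInstance, i.restrictScalars k, j.restrictScalars k, AlgHom.ext fun r => ?_⟩
  have e1 : u r = algebraMap p.ResidueField K (algebraMap R p.ResidueField r) :=
    (Ideal.ResidueField.lift_algebraMap p u.toRingHom le_rfl hu r).symm
  have e2 : v r = algebraMap p.ResidueField K' (algebraMap R p.ResidueField r) :=
    (Ideal.ResidueField.lift_algebraMap p v.toRingHom h.le hv r).symm
  show i (u r) = j (v r)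
  rw [e1, e2, i.commutes, j.commutes]

/-- The orbit is stable in both directions. -/
theorem mem_range_of_coact_mem (q : PrimeSpectrum (R ⊗[k] H))
    (h : PrimeSpectrum.comap (GLin.coactAlgHom k H R).toRingHom q ∈ Set.range (PrimeSpectrum.comap (GLin.orbitHom k H x).toRingHom)) :
    PrimeSpectrum.comap (Algebra.TensorProduct.includeLeft (R := k) (S := k) (A := R) (B := H)).toRingHom q ∈
      Set.range (PrimeSpectrum.comap (GLin.orbitHom k H x).toRingHom) := by
  obtain ⟨Q, hQ⟩ := h
  let K := q.asIdeal.ResidueField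
  let K' := Q.asIdeal.ResidueField
  let ψ : R ⊗[k] H →ₐ[k] K := IsScalarTower.toAlgHom k _ K
  let g : H →ₐ[k] K' := IsScalarTower.toAlgHom k _ K'
  have hψ : ∀ y, y ∈ q.asIdeal ↔ ψ y = 0 := fun y => Ideal.algebraMap_residueField_eq_zero.symm
  have hg : ∀ y, y ∈ Q.asIdeal ↔ g y = 0 := fun y => Ideal.algebraMap_residueField_eq_zero.symm
  obtain ⟨L, _, _, i, j, hij⟩ := exists_field_comp_eq (ψ.comp δ) (g.comp o) (by
    ext r
    have := SetLike.ext_iff.1 (congrArg PrimeSpectrum.asIdeal hQ) r
    show ψ (δ r) = 0 ↔ g (o r) = 0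
    rw [← hψ, ← hg]
    exact this.symm)
  let a : R →ₐ[k] K := ψ.comp Algebra.TensorProduct.includeLeft
  let h₁ : H →ₐ[k] K := ψ.comp Algebra.TensorProduct.includeRight
  have hψ' : i.comp (ψ.comp δ) = pmul (i.comp a) (i.comp h₁) := by
    refine AlgHom.ext fun r => ?_
    show i (ψ (δ r)) = Algebra.TensorProduct.lift (i.comp a) (i.comp h₁) (fun _ _ => Commute.all _ _) (δ r)
    induction δ r with
    | zero => simp
    | add p q hp hq => simp only [map_add, hp, hq]
    | tmul s t =>
      rw [Algebra.TensorProduct.lift_tmul]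
      show _ = i (ψ (s ⊗ₜ 1)) * i (ψ (1 ⊗ₜ t))
      rw [← map_mul, ← map_mul, Algebra.TensorProduct.tmul_mul_tmul, mul_one, one_mul]
  have key : pmul (pmul (i.comp a) (i.comp h₁)) (toConv ((i.comp h₁).comp (HopfAlgebra.antipodeAlgHom k H))).ofConv =
      (toConv (j.comp g) * (toConv ((i.comp h₁).comp (HopfAlgebra.antipodeAlgHom k H)))).ofConv.comp o := by
    rw [← hψ', hij, ← AlgHom.comp_assoc, comp_orbitHom x, comp_orbitHom x, ← pmul_pmul]
  rw [pmul_pmul, toConv_ofConv, convMul_comp_antipode, pmul_one] at key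
  refine ⟨⟨RingHom.ker (toConv (j.comp g) * (toConv ((i.comp h₁).comp (HopfAlgebra.antipodeAlgHom k H)))).ofConv, RingHom.ker_isPrime _⟩, ?_⟩
  refine PrimeSpectrum.ext (Ideal.ext fun r => ?_)
  show (toConv (j.comp g) * (toConv ((i.comp h₁).comp (HopfAlgebra.antipodeAlgHom k H)))).ofConv (o r) = 0 ↔ r ⊗ₜ[k] (1 : H) ∈ q.asIdeal
  rw [hψ, ← map_eq_zero_iff i i.toRingHom.injective]
  exact Eq.congr_left (AlgHom.congr_fun key r).symm

theorem coact_mem_zeroLocus (q : PrimeSpectrum (R ⊗[k] H))
    (h : RingHom.ker o ≤ q.asIdeal.comap (Algebra.TensorProduct.includeLeft (R := k) (S := k) (A := R) (B := H))) :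
    RingHom.ker o ≤ q.asIdeal.comap (GLin.coactAlgHom k H R) := by
  intro r hr
  let I := RingHom.ker (GLin.orbitHom k H x)
  let f : R ⊗[k] H →ₗ[k] H ⊗[k] H := (GLin.orbitHom k H x).toLinearMap.rTensor H
  have hf : f (δ r) = 0 := by
    have := comul_orbitHom (H := H) x r
    rw [show (GLin.orbitHom k H x) r = 0 from hr, map_zero] at this
    exact this.symm
  have hex : Function.Exact (LinearMap.rTensor H (LinearMap.ker (GLin.orbitHom k H x).toLinearMap).subtype) f :=
    Module.Flat.rTensor_exact H (LinearMap.exact_subtype_ker_map _)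
  obtain ⟨t, ht⟩ := (hex _).1 hf
  show δ r ∈ q.asIdeal
  rw [← ht]
  clear ht
  induction t with
  | zero => simp
  | add a b ha hb => rw [map_add]; exact add_mem ha hb
  | tmul s g =>
    have := h (show (s : R) ∈ RingHom.ker o from s.2)
    rw [LinearMap.rTensor_tmul, Submodule.subtype_apply,
      show (s : R) ⊗ₜ[k] g = ((s : R) ⊗ₜ[k] (1 : H)) * ((1 : R) ⊗ₜ[k] g) by
        rw [Algebra.TensorProduct.tmul_mul_tmul, mul_one, one_mul]]
    exact Ideal.mul_mem_right _ _ this

/-- A constructible orbit of a unipotent group is closed. -/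
theorem isClosedOrbit_of_isConstructible [IsNoetherianRing R] (hU : HopfRep.IsUnipotent k H)
    (hc : Topology.IsConstructible (Set.range (PrimeSpectrum.comap (GLin.orbitHom k H x).toRingHom))) :
    GLin.IsClosedOrbit k H x := by
  classical
  let O : R →ₐ[k] H := o
  let orb : Set (PrimeSpectrum R) := Set.range (PrimeSpectrum.comap O.toRingHom)
  let I : Ideal R := RingHom.ker O.toRingHom
  have hcl : closure orb = zeroLocus (I : Set R) := PrimeSpectrum.closure_range_comap _
  refine closure_subset_iff_isClosed.1 ?_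
  by_contra hnc
  obtain ⟨y₀, hy₀, hy₀'⟩ := Set.not_subset.1 hnc
  let F : Set (PrimeSpectrum R) := closure orb \ orb
  let J : Ideal R := vanishingIdeal F
  have hI : ∀ y : PrimeSpectrum R, y ∈ closure orb → I ≤ y.asIdeal := fun y hy => by
    rw [hcl] at hy; exact hy
  obtain ⟨p, hp, -⟩ := Ideal.exists_minimalPrimes_le (hI y₀ hy₀)
  haveI := hp.1.1
  obtain ⟨p', hp', -, hpe⟩ := Ideal.exists_comap_eq_of_mem_minimalPrimes (I := ⊥) O.toRingHom p
    (by rwa [← RingHom.ker_eq_comap_bot])
  obtain ⟨f, hf, hfs⟩ := exists_basicOpen_inter_subset I hc ⟨p, hp.1.1⟩ hp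
    ⟨⟨p', hp'⟩, PrimeSpectrum.ext hpe⟩
  let qJ : R ⊗[k] H →ₐ[k] (R ⧸ J) ⊗[k] H :=
    Algebra.TensorProduct.map (Ideal.Quotient.mkₐ k J) (AlgHom.id k H)
  have hnil : IsNilpotent (qJ (δ f)) := by
    refine nilpotent_iff_mem_prime.2 fun Q hQ => ?_
    by_contra hnot
    let q : PrimeSpectrum (R ⊗[k] H) := PrimeSpectrum.comap qJ.toRingHom ⟨Q, hQ⟩
    let pr : PrimeSpectrum (R ⊗[k] H) → PrimeSpectrum R := PrimeSpectrum.comap (algebraMap R (R ⊗[k] H))
    have hq : pr q ∈ closure F := by
      rw [← zeroLocus_vanishingIdeal_eq_closure]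
      intro r hr
      show qJ (r ⊗ₜ[k] (1 : H)) ∈ Q
      rw [show qJ (r ⊗ₜ[k] (1 : H)) = (Ideal.Quotient.mkₐ k J r) ⊗ₜ[k] (1 : H) from rfl,
        Ideal.Quotient.mkₐ_eq_mk, Ideal.Quotient.eq_zero_iff_mem.2 hr, zero_tmul]
      exact zero_mem _
    obtain ⟨y, ⟨q', hq', rfl⟩, hy, hy'⟩ := mem_closure_iff.1 hq (pr '' (basicOpen (δ f) : Set _))
      (PrimeSpectrum.isOpenMap_comap_algebraMap_tensorProduct_of_field _ (basicOpen (δ f)).isOpen)
      ⟨q, hnot, rfl⟩
    refine hy' (mem_range_of_coact_mem x q' ?_)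
    exact hfs _ hq' (coact_mem_zeroLocus x q' (hI _ hy))
  obtain ⟨N, hN⟩ := hnil
  have htr : ∀ φ : H →ₗ[k] k, fAct R φ (f ^ N) ∈ J := by
    intro φ
    rw [← Ideal.Quotient.eq_zero_iff_mem]
    have h1 : ∀ y : R ⊗[k] H, Ideal.Quotient.mk J (TensorProduct.rid k R (φ.lTensor R y)) =
        TensorProduct.rid k (R ⧸ J) (φ.lTensor (R ⧸ J) (qJ y)) := by
      intro y
      induction y with
      | zero => simp
      | add a b ha hb => simp only [map_add, ha, hb]
      | tmul s g =>
        show Ideal.Quotient.mk J (φ g • s) = φ g • Ideal.Quotient.mk J s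
        exact map_smul (Ideal.Quotient.mkₐ k J) (φ g) s
    rw [Groth.L08.fAct_apply, h1, ← GLin.coactAlgHom_apply, map_pow, map_pow, hN, map_zero, map_zero]
  let M : Submodule k H := (J.restrictScalars k).map O.toLinearMap
  have hne : O (f ^ N) ≠ 0 := by
    intro h0
    have : f ^ N ∈ p'.comap O.toRingHom := by
      show O (f ^ N) ∈ p'
      rw [h0]; exact zero_mem _
    rw [hpe] at this
    exact hf (hp.1.1.mem_of_pow_mem N this)
  obtain ⟨c, hc0, r, hr, hrc⟩ := exists_const_mem_right hU M hne fun φ =>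
    ⟨fAct R φ (f ^ N), htr φ, fAct_orbitHom x φ _⟩
  have hrI : r - algebraMap k R c ∈ I := by
    show O (r - algebraMap k R c) = 0
    rw [map_sub, O.commutes, sub_eq_zero]
    exact hrc
  have h1 : r ∈ y₀.asIdeal := (mem_vanishingIdeal F r).1 hr y₀ ⟨hy₀, hy₀'⟩
  have h2 : algebraMap k R c ∈ y₀.asIdeal := by
    simpa using sub_mem h1 (hI y₀ hy₀ hrI)
  exact y₀.isPrime.ne_top (Ideal.eq_top_of_isUnit_mem _ h2 ((Ne.isUnit hc0).map _))

/-- Orbits of a pro-unipotent group are closed. -/
theorem isClosedOrbit_of_iUnion (hU : HopfRep.IsUnipotent k H) (B : ℕ → Subalgebra k H) (hmono : Monotone B)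
    (hcov : ∀ h : H, ∃ i, h ∈ B i) (hfg : ∀ i, (B i).FG) (hfree : ∀ i, Module.Free (B i) H) :
    GLin.IsClosedOrbit k H x := by
  classical
  let O : R →ₐ[k] H := o
  refine closure_subset_iff_isClosed.1 ?_
  rw [PrimeSpectrum.closure_range_comap]
  intro P hP
  refine (PrimeSpectrum.mem_range_comap_iff _).2 (le_antisymm ?_ Ideal.le_comap_map)
  intro a ha
  have ha' : O a ∈ Submodule.span H ((fun r => O r) '' (P.asIdeal : Set R)) := ha
  obtain ⟨t, ht, hat⟩ := Submodule.mem_span_finite_of_mem_span ha'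
  obtain ⟨s, hs, rfl⟩ := Finset.subset_set_image_iff.1 ht
  obtain ⟨W, hWfin, hsW, hW⟩ := Groth.L08.exists_finite_subcomod_of_finset (k := k) (A := H) (insert a s)
  let R' : Subalgebra k R := Algebra.adjoin k (W : Set R)
  let inc : R' ⊗[k] H →ₐ[k] R ⊗[k] H := Algebra.TensorProduct.map R'.val (AlgHom.id k H)
  have hR' : HopfRep.IsSubcomod (k := k) (A := H) (Subalgebra.toSubmodule R') := by
    intro r hr
    have hle : R' ≤ inc.range.comap δ := Algebra.adjoin_le fun w hw => by
      obtain ⟨y, hy⟩ := hW w hw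
      refine ⟨((Submodule.inclusion (show W ≤ Subalgebra.toSubmodule R' from Algebra.subset_adjoin)).rTensor H) y, ?_⟩
      show inc _ = δ w
      rw [GLin.coactAlgHom_apply, ← hy]
      clear hy
      induction y with
      | zero => simp
      | add p q hp hq => simp only [map_add, hp, hq]
      | tmul p q => rfl
    obtain ⟨y, hy⟩ := hle hr
    exact ⟨y, hy⟩
  letI := Groth.L08.Luna.subComod R' hR'
  haveI := Groth.L08.Luna.isCoactAlg_subComod R' hR'
  let x' : R' →ₐ[k] k := x.comp R'.val
  have ho : ∀ r : R', GLin.orbitHom k H x' r = O r := by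
    intro r
    show TensorProduct.lid k H (x'.toLinearMap.rTensor H (HopfRep.Comod.coact (k := k) (A := H) r)) =
      TensorProduct.lid k H (x.toLinearMap.rTensor H (HopfRep.Comod.coact (k := k) (A := H) (r : R)))
    rw [Groth.L08.Luna.subComod_val R' hR']
    induction HopfRep.Comod.coact (k := k) (A := H) r with
    | zero => simp
    | add p q hp hq => simp only [map_add, hp, hq]
    | tmul p q => rfl
  have hR'fg : R'.FG := by
    obtain ⟨w, hw⟩ := (Module.Finite.iff_fg.1 hWfin)
    exact ⟨w, by rw [← Algebra.adjoin_span, hw]⟩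
  haveI : Algebra.FiniteType k R' := ⟨R'.fg_top.2 hR'fg⟩
  haveI : IsNoetherianRing R' := Algebra.FiniteType.isNoetherianRing k R'
  obtain ⟨G, hG⟩ := hR'fg
  choose n hn using hcov
  obtain ⟨i, hi⟩ : ∃ i, ∀ g ∈ G, O g ∈ B i :=
    ⟨G.sup fun g => n (O g), fun g hg => hmono (Finset.le_sup (f := fun g => n (O g)) hg) (hn _)⟩
  have hi' : R' ≤ (B i).comap O := hG ▸ Algebra.adjoin_le hi
  let o' : R' →ₐ[k] B i :=
    (GLin.orbitHom k H x').codRestrict (B i) fun r => by rw [ho]; exact hi' r.2
  have hrange : Set.range (PrimeSpectrum.comap (GLin.orbitHom k H x').toRingHom) =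
      Set.range (PrimeSpectrum.comap o'.toRingHom) := by
    haveI : Nontrivial H := ⟨0, 1, fun h => by
      have := congrArg (Coalgebra.counit (R := k)) h
      rw [map_zero, Bialgebra.counit_one] at this
      exact zero_ne_one this⟩
    haveI := hfree i
    haveI : Module.FaithfullyFlat (B i) H := inferInstance
    have hsurj : Function.Surjective (PrimeSpectrum.comap (algebraMap (B i) H)) :=
      PrimeSpectrum.comap_surjective_of_faithfullyFlat
    rw [show (GLin.orbitHom k H x').toRingHom = (algebraMap (B i) H).comp o'.toRingHom from rfl,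
      PrimeSpectrum.comap_comp, Set.range_comp, hsurj.range_eq, Set.image_univ]
  have hfp : o'.toRingHom.FinitePresentation := by
    haveI : Algebra.FiniteType k (B i) := ⟨(B i).fg_top.2 (hfg i)⟩
    refine RingHom.FinitePresentation.of_finiteType.1 (RingHom.FiniteType.of_comp_finiteType
      (f := algebraMap k R') ?_)
    rw [show o'.toRingHom.comp (algebraMap k R') = algebraMap k (B i) from o'.comp_algebraMap]
    exact RingHom.finiteType_algebraMap.2 inferInstance
  have hclosed := isClosedOrbit_of_isConstructible x' hU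
    (hrange ▸ PrimeSpectrum.isConstructible_range_comap hfp)
  have hmem : PrimeSpectrum.comap R'.val.toRingHom P ∈
      Set.range (PrimeSpectrum.comap (GLin.orbitHom k H x').toRingHom) := by
    rw [← hclosed.closure_eq, PrimeSpectrum.closure_range_comap]
    intro r hr
    exact hP (show O (r : R) = 0 from (ho r) ▸ hr)
  obtain ⟨Q, hQ⟩ := hmem
  have hQ' : ∀ r : R, r ∈ R' → (O r ∈ Q.asIdeal ↔ r ∈ P.asIdeal) := fun r hr => by
    rw [← ho ⟨r, hr⟩]
    exact SetLike.ext_iff.1 (congrArg PrimeSpectrum.asIdeal hQ) ⟨r, hr⟩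
  have hsub : ∀ r ∈ insert a s, r ∈ R' := fun r hr => Algebra.subset_adjoin (hsW hr)
  refine (hQ' a (hsub a (Finset.mem_insert_self _ _))).1 (Submodule.span_le.2 ?_ hat)
  rintro _ hz
  rw [Finset.coe_image] at hz
  obtain ⟨r, hr, rfl⟩ := hz
  exact (hQ' r (hsub r (Finset.mem_insert_of_mem hr))).2 (hs hr)

end Orbit

end Groth.L16.UnipOrbit
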