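import Groth.Agent.L08.Dual
import Groth.Agent.L08.Flag
import Groth.Agent.L08.LinRed

/-!
# Subspaces stable under left translations in the coordinate ring of a unipotent group
-/

set_option autoImplicit false

universe u

open TensorProduct WithConv
open Groth.L08 (fAct hasFlag_of_isUnipotent)

noncomputable section

namespace Groth.L16.UnipOrbit

variable {k : Type u} [Field k] {A : Type u} [CommRing A] [HopfAlgebra k A]

/-- The left translation by a functional. -/
def lAct (φ : A →ₗ[k] k) : A →ₗ[k] A :=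
  (TensorProduct.lid k A).toLinearMap ∘ₗ φ.rTensor A ∘ₗ Coalgebra.comul (R := k)

theorem fAct_antipode (φ : A →ₗ[k] k) (a : A) :
    fAct A φ (HopfAlgebraStruct.antipode (R := k) a) =
      HopfAlgebraStruct.antipode (R := k) (lAct (φ ∘ₗ HopfAlgebraStruct.antipode (R := k)) a) := by
  rw [Groth.L08.fAct_apply]
  show TensorProduct.rid k A (φ.lTensor A (Coalgebra.comul (R := k) (HopfAlgebraStruct.antipode (R := k) a))) = _
  rw [Groth.L08.comul_antipode]
  show _ = HopfAlgebraStruct.antipode (R := k)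
    (TensorProduct.lid k A ((φ ∘ₗ HopfAlgebraStruct.antipode (R := k)).rTensor A (Coalgebra.comul (R := k) a)))
  induction Coalgebra.comul (R := k) a with
  | zero => simp
  | add x y hx hy => simp only [map_add, hx, hy]
  | tmul x y => simp

/-- A nonzero element all of whose left translates lie in `M` forces a nonzero constant in `M`. -/
theorem exists_const_mem (hU : HopfRep.IsUnipotent k A) (M : Submodule k A) {a : A} (ha : a ≠ 0)
    (hM : ∀ φ : A →ₗ[k] k, lAct φ a ∈ M) : ∃ c : k, c ≠ 0 ∧ algebraMap k A c ∈ M := by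
  classical
  let S : A →ₗ[k] A := HopfAlgebraStruct.antipode (R := k)
  -- the stable set
  let W : Set A := {v | ∀ φ : A →ₗ[k] k, S (fAct A φ v) ∈ M}
  have hW : ∀ v ∈ W, ∀ φ : A →ₗ[k] k, fAct A φ v ∈ W := by
    intro v hv φ ψ
    rw [← LinearMap.comp_apply (fAct A ψ), ← Groth.L08.fAct_comp]
    exact hv _
  have hSS : ∀ x, S (S x) = x := fun x => Groth.L08.antipode_antipode_apply x
  have haW : S a ∈ W := fun φ => by
    rw [fAct_antipode, hSS]
    exact hM _
  have hSa : S a ≠ 0 := fun h => ha (by rw [← hSS a, h, map_zero])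
  obtain ⟨m, F, h0, hm, hst⟩ := hasFlag_of_isUnipotent hU (S a)
  have hex : ∃ i, ∃ v ∈ F i, v ∈ W ∧ v ≠ 0 := ⟨m, _, hm, haW, hSa⟩
  obtain ⟨v, hv, hvW, hv0⟩ := Nat.find_spec hex
  obtain ⟨j, hj⟩ : ∃ j, Nat.find hex = j + 1 := by
    refine Nat.exists_eq_succ_of_ne_zero fun h => hv0 ?_
    rwa [h, h0, Submodule.mem_bot] at hv
  rw [hj] at hv
  obtain ⟨g, rfl, hstep⟩ := hst j
  have hfix : ∀ φ : A →ₗ[k] k, fAct A φ v = φ 1 • v := by
    intro φ
    rw [← sub_eq_zero]
    by_contra hne
    refine Nat.find_min hex (m := j) (by omega) ⟨_, hstep v hv φ, fun ψ => ?_, hne⟩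
    rw [map_sub, map_smul, map_sub, map_smul]
    exact sub_mem (hW v hvW φ ψ) (M.smul_mem _ (hvW ψ))
  have hscal : v = algebraMap k A (Coalgebra.counit (R := k) v) := by
    by_contra hne
    obtain ⟨φ, hφ⟩ : ∃ φ : Module.Dual k A, φ (v - algebraMap k A (Coalgebra.counit (R := k) v)) ≠ 0 := by
      by_contra! h0'
      exact hne (sub_eq_zero.1 ((Module.forall_dual_apply_eq_zero_iff k _).1 h0'))
    refine hφ ?_
    have h1 := congrArg (Coalgebra.counit (R := k)) (hfix φ)
    rw [map_smul, smul_eq_mul] at h1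
    have h3 : Coalgebra.counit (R := k) (fAct A φ v) = φ v := by
      have h := Groth.L08.apply_cf (A := A) φ (Coalgebra.counit (R := k)) v
      rw [← h, Groth.L08.cf_counit_apply]
    rw [h3] at h1
    rw [map_sub, Algebra.algebraMap_eq_smul_one, map_smul, smul_eq_mul, h1, mul_comm, sub_self]
  refine ⟨Coalgebra.counit (R := k) v, fun h => hv0 (by rw [hscal, h, map_zero]), ?_⟩
  have h := hvW (Coalgebra.counit (R := k))
  rw [Groth.L08.fAct_counit, LinearMap.id_apply, hscal] at h
  rwa [show S (algebraMap k A (Coalgebra.counit (R := k) v)) = algebraMap k A (Coalgebra.counit (R := k) v) by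
    rw [Algebra.algebraMap_eq_smul_one, map_smul, HopfAlgebra.antipode_one]] at h

end Groth.L16.UnipOrbit
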