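import Groth.Agent.L16.UnipOrbit.Orbit
import Groth.Agent.L25.Observable.UnipFixed
import Groth.Agent.L14.Luna.Cor
import Groth.Agent.L08.Borel.SolvTori
import Groth.Agent.L08.Borel.Points
import Groth.Prelude.Def_W4c6nonredquotmfGoodQuot

/-!
# Good quotients by unipotent groups separate orbits
-/

set_option autoImplicit false
set_option linter.style.haveILetI false
set_option backward.isDefEq.respectTransparency.types false
set_option backward.isDefEq.respectTransparency false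

universe u

open CategoryTheory CategoryTheory.Limits MonoidalCategory CartesianMonoidalCategory MonObj AlgebraicGeometry
open Groth.L25.Bridge (P)
open Groth.L08.Borel (ptOf exists_pt_mem pt_ext)

noncomputable section

namespace Groth.L16.UnipOrbit

variable {k : Type u} [Field k] {G G' X : Over (Spec (CommRingCat.of k))} [GrpObj G] [GrpObj G']

theorem act_mem_orbit (a : AlgGrp.Action G X) (x : 𝟙_ (Over (Spec (CommRingCat.of k))) ⟶ X) :
    NRQuot.IsInvariantSet a (Set.range (a.orbitMap x).left) := by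
  rintro q ⟨g, hg⟩
  obtain ⟨q', hq', -⟩ := Scheme.exists_preimage_of_isPullback
    (Groth.L18.GITQ.isPullback_whiskerLeft G (a.orbitMap x)) q g hg.symm
  have e : (G ◁ a.orbitMap x) ≫ a.act = μ[G] ≫ a.orbitMap x := by
    rw [show (G ◁ a.orbitMap x) = lift (fst G G) (snd G G ≫ a.orbitMap x) from
      CartesianMonoidalCategory.hom_ext _ _ (by simp) (by simp),
      Groth.L19.AlgGrpBasic.orbitMap_apply, Groth.L19.AlgGrpBasic.orbitMap_apply, ← Groth.L25.Actions.mul_act]
    have hid : fst G G * snd G G = μ[G] := by rw [Hom.mul_def, lift_fst_snd, Category.id_comp]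
    rw [hid, toUnit_unique (toUnit (G ⊗ G)) (μ[G] ≫ toUnit G)]
  refine ⟨μ[G].left q', ?_⟩
  rw [← hq']
  exact (congrArg (fun f : (G ⊗ G) ⟶ X => f.left q') e).symm

theorem range_orbit_subset_fibre {Y : Over (Spec (CommRingCat.of k))} (a : AlgGrp.Action G X) {φ : X ⟶ Y}
    (hinv : GIT.IsInvariant a φ) (x : 𝟙_ (Over (Spec (CommRingCat.of k))) ⟶ X) :
    Set.range (a.orbitMap x).left ⊆ φ.left ⁻¹' {ptOf (x ≫ φ)} := by
  rintro _ ⟨g, rfl⟩
  have e : a.orbitMap x ≫ φ = toUnit G ≫ x ≫ φ := by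
    rw [AlgGrp.Action.orbitMap, Category.assoc, hinv, lift_snd_assoc, Category.assoc]
  refine (congrArg (fun f : G ⟶ Y => f.left g) e).trans ?_
  show (x ≫ φ).left ((toUnit G).left g) = (x ≫ φ).left (IsLocalRing.closedPoint k)
  congr 1
  exact Subsingleton.elim (α := PrimeSpectrum k) _ _

variable [IsAlgClosed k]

/-- Orbits of a unipotent group are closed in the source of an affine invariant morphism. -/
theorem isClosed_orbit_of_affine {A : Type u} [CommRing A] [HopfAlgebra k A] [Algebra.FiniteType k A]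
    (hU : HopfRep.IsUnipotent k A) (e : P k A ≅ G) [IsMonHom e.hom] [LocallyOfFiniteType X.hom]
    {Y : Over (Spec (CommRingCat.of k))} [LocallyOfFiniteType Y.hom] (a : AlgGrp.Action G X) (φ : X ⟶ Y)
    [IsAffineHom φ.left] (hinv : GIT.IsInvariant a φ) (x : 𝟙_ (Over (Spec (CommRingCat.of k))) ⟶ X) :
    IsClosed (Set.range (a.orbitMap x).left) := by
  obtain ⟨U, hU', hyU, -⟩ := exists_isAffineOpen_mem_and_subset (x := ptOf (x ≫ φ)) (U := ⊤) trivial
  let V : X.left.Opens := φ.left ⁻¹ᵁ U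
  haveI : IsAffine (V : Scheme.{u}) := hU'.preimage φ.left
  let X' : Over (Spec (CommRingCat.of k)) := Over.mk (V.ι ≫ X.hom)
  let jV : X' ⟶ X := Over.homMk V.ι rfl
  haveI : Mono jV := Over.mono_of_mono_left _
  haveI : LocallyOfFiniteType X'.hom := inferInstanceAs (LocallyOfFiniteType (V.ι ≫ X.hom))
  haveI : IsAffine X'.left := ‹IsAffine (V : Scheme.{u})›
  have hlift : ∀ {T : Over (Spec (CommRingCat.of k))} (f : T ⟶ X) (f' : T ⟶ X'), f ≫ φ = f' ≫ jV ≫ φ →
      Set.range f.left ⊆ Set.range V.ι := by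
    intro T f f' hf
    rintro _ ⟨p, rfl⟩
    rw [Scheme.Opens.range_ι]
    show φ.left (f.left p) ∈ U
    have : φ.left (f.left p) = φ.left (V.ι (f'.left p)) := congrArg (fun m : T ⟶ Y => m.left p) hf
    rw [this]
    exact (show V.ι (f'.left p) ∈ (V : Set X.left) by rw [← Scheme.Opens.range_ι]; exact ⟨_, rfl⟩)
  let b : AlgGrp.Action (P k A) X := a.restrict e.hom
  have hb : ∀ {T : Over (Spec (CommRingCat.of k))} (g : T ⟶ P k A) (z : T ⟶ X),
      lift g z ≫ b.act = lift (g ≫ e.hom) z ≫ a.act := fun g z => by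
    show lift g z ≫ (e.hom ▷ X) ≫ a.act = _
    rw [lift_whiskerRight_assoc]
  let t : P k A ⊗ X' ⟶ X := (P k A ◁ jV) ≫ b.act
  have ht : t ≫ φ = snd (P k A) X' ≫ jV ≫ φ := by
    show ((P k A ◁ jV) ≫ (e.hom ▷ X) ≫ a.act) ≫ φ = _
    simp only [Category.assoc]
    rw [show a.act ≫ φ = snd G X ≫ φ from hinv, whiskerRight_snd_assoc, whiskerLeft_snd_assoc]
  let act' : P k A ⊗ X' ⟶ X' := Over.homMk
    (IsOpenImmersion.lift V.ι t.left (hlift t (snd (P k A) X') ht))
    (by
      show IsOpenImmersion.lift V.ι t.left _ ≫ V.ι ≫ X.hom = _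
      rw [IsOpenImmersion.lift_fac_assoc]
      exact Over.w t)
  have hact : act' ≫ jV = t := Over.OverMorphism.ext (IsOpenImmersion.lift_fac _ _ _)
  let a' : AlgGrp.Action (P k A) X' :=
    { act := act'
      one_act := by
        rw [← cancel_mono jV, Category.assoc, hact]
        show (η[P k A] ▷ X') ≫ (P k A ◁ jV) ≫ b.act = _
        rw [← whisker_exchange_assoc, b.one_act]
        exact leftUnitor_naturality jV
      mul_act := by
        rw [← cancel_mono jV]
        simp only [Category.assoc, hact]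
        show (μ[P k A] ▷ X') ≫ (P k A ◁ jV) ≫ b.act = (α_ _ _ _).hom ≫ (P k A ◁ act') ≫ (P k A ◁ jV) ≫ b.act
        rw [← whisker_exchange_assoc, b.mul_act, associator_naturality_right_assoc,
          ← MonoidalCategory.whiskerLeft_comp_assoc, ← MonoidalCategory.whiskerLeft_comp_assoc, hact] }
  have hxU : Set.range x.left ⊆ Set.range V.ι := by
    rintro _ ⟨p, rfl⟩
    rw [Scheme.Opens.range_ι]
    show φ.left (x.left p) ∈ U
    rw [show p = IsLocalRing.closedPoint k from Subsingleton.elim (α := PrimeSpectrum k) _ _]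
    exact hyU
  let x' : 𝟙_ (Over (Spec (CommRingCat.of k))) ⟶ X' := Over.homMk (IsOpenImmersion.lift V.ι x.left hxU)
    (by show IsOpenImmersion.lift V.ι x.left hxU ≫ V.ι ≫ X.hom = _
        rw [IsOpenImmersion.lift_fac_assoc]; exact Over.w x)
  have hx' : x' ≫ jV = x := Over.OverMorphism.ext (IsOpenImmersion.lift_fac _ _ _)
  have horb : a'.orbitMap x' ≫ jV = e.hom ≫ a.orbitMap x := by
    rw [AlgGrp.Action.orbitMap, Category.assoc, hact, Groth.L19.AlgGrpBasic.orbitMap_apply]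
    show lift (𝟙 (P k A)) (toUnit (P k A) ≫ x') ≫ (P k A ◁ jV) ≫ b.act = _
    rw [lift_whiskerLeft_assoc, hb, Category.id_comp, Category.assoc, hx']
  have hrange : Set.range (a.orbitMap x).left = V.ι '' Set.range (a'.orbitMap x').left := by
    rw [← Set.range_comp]
    haveI : IsIso e.hom.left := inferInstanceAs (IsIso ((Over.forget _).map e.hom))
    ext p
    constructor
    · rintro ⟨g, rfl⟩
      obtain ⟨g', rfl⟩ := e.hom.left.surjective g
      exact ⟨g', congrArg (fun m : P k A ⟶ X => m.left g') horb⟩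
    · rintro ⟨g', rfl⟩
      exact ⟨e.hom.left g', (congrArg (fun m : P k A ⟶ X => m.left g') horb).symm⟩
  have hcl : IsClosed (Set.range (a'.orbitMap x').left.base) := isClosed_orbit hU X' a' x'
  obtain ⟨Z, hZ, hZe⟩ : ∃ Z : Set X.left, IsClosed Z ∧ V.ι ⁻¹' Z = Set.range (a'.orbitMap x').left.base := by
    obtain ⟨Z, hZ, h⟩ := V.ι.isOpenEmbedding.isEmbedding.isInducing.isClosed_iff.1 hcl
    exact ⟨Z, hZ, h⟩
  have hy : IsClosed ({ptOf (x ≫ φ)} : Set Y.left) :=
    (pointEquivClosedPoint Y.hom ⟨(x ≫ φ).left, Over.w (x ≫ φ)⟩).2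
  have heq : Set.range (a.orbitMap x).left = Z ∩ φ.left ⁻¹' {ptOf (x ≫ φ)} := by
    refine Set.Subset.antisymm (Set.subset_inter ?_ (range_orbit_subset_fibre a hinv x)) ?_
    · rw [hrange, ← hZe]; exact Set.image_preimage_subset _ _
    · rintro p ⟨hpZ, hp⟩
      obtain ⟨q, rfl⟩ : p ∈ Set.range V.ι := by
        rw [Scheme.Opens.range_ι]
        show φ.left p ∈ U
        rw [show φ.left p = _ from hp]
        exact hyU
      rw [hrange]
      exact ⟨q, hZe ▸ hpZ, rfl⟩
  rw [heq]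
  exact hZ.inter (hy.preimage φ.left.continuous)

theorem exists_translate_of_eq [CharZero k] [IsAffine G.left] [Smooth G.hom] [ConnectedSpace G.left]
    (hG : Red.HasNoSubtorus k G) [LocallyOfFiniteType X.hom] [QuasiCompact X.hom] {Y : Over (Spec (CommRingCat.of k))}
    [LocallyOfFiniteType Y.hom] (a : AlgGrp.Action G X) (φ : X ⟶ Y) (h : NRQuot.IsGoodQuot a φ)
    (x₁ x₂ : 𝟙_ (Over (Spec (CommRingCat.of k))) ⟶ X) (hφ : x₁ ≫ φ = x₂ ≫ φ) :
    ∃ g : 𝟙_ (Over (Spec (CommRingCat.of k))) ⟶ G, lift g x₁ ≫ a.act = x₂ := by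
  haveI := h.affine
  have hsol := Groth.L14.Luna.isSolvableGrp_of_noSubtorus G hG
  obtain ⟨A, _, _, hft, hred, -, -, ⟨eG⟩⟩ := Groth.L08.Borel.exists_hopf_data hsol
  haveI := hft; haveI := hred
  let e : P k A ≅ G := (Grp.forget _).mapIso eG.symm
  haveI : IsMonHom e.hom := eG.inv.hom.isMonHom_hom
  let ψ : G ⟶ Groth.L25.Observable.Sp k A := e.inv
  haveI : IsMonHom ψ := eG.hom.hom.isMonHom_hom
  haveI : IsIso ψ := inferInstanceAs (IsIso e.inv)
  haveI : Group.IsSolvable (VecGrp.pt k k ⟶ G) := by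
    obtain ⟨n, hn⟩ := hsol
    exact ⟨⟨n, hn _⟩⟩
  have hU := Groth.L25.Observable.isUnipotent_of_solvable_noSubtorus ψ hG
  let W : ULift.{u} Bool → Set X.left := fun i => Set.range (a.orbitMap (if i.down then x₁ else x₂)).left
  have hW := h.inter (ULift.{u} Bool) W (fun i => isClosed_orbit_of_affine hU e a φ h.inv _)
    (fun i => act_mem_orbit a _)
  have hmem : ∀ z : 𝟙_ (Over (Spec (CommRingCat.of k))) ⟶ X,
      ptOf (z ≫ φ) ∈ φ.left.base '' Set.range (a.orbitMap z).left := by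
    intro z
    refine ⟨_, ⟨ptOf (1 : 𝟙_ _ ⟶ G), rfl⟩, ?_⟩
    exact range_orbit_subset_fibre a h.inv z ⟨_, rfl⟩
  have hy : ptOf (x₁ ≫ φ) ∈ ⋂ i, φ.left.base '' (W i) := by
    refine Set.mem_iInter.2 fun i => ?_
    obtain ⟨b⟩ := i
    cases b
    · simpa [W, hφ] using hmem x₂
    · simpa [W] using hmem x₁
  rw [← hW] at hy
  obtain ⟨p, hp, -⟩ := hy
  obtain ⟨z, hz⟩ := exists_pt_mem (X := X)
    (isClosed_iInter fun i => isClosed_orbit_of_affine hU e a φ h.inv _).isLocallyClosed ⟨p, hp⟩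
  have hg : ∀ b : Bool, ∃ g : 𝟙_ (Over (Spec (CommRingCat.of k))) ⟶ G,
      lift g (if b then x₁ else x₂) ≫ a.act = z := by
    intro b
    have hzb : ptOf z ∈ W ⟨b⟩ := Set.mem_iInter.1 hz ⟨b⟩
    obtain ⟨g, hg⟩ := exists_pt_mem (X := G) (O := (a.orbitMap (if b then x₁ else x₂)).left ⁻¹' {ptOf z})
      (((pointEquivClosedPoint X.hom ⟨z.left, Over.w z⟩).2).preimage
        (a.orbitMap (if b then x₁ else x₂)).left.continuous).isLocallyClosed
      (by obtain ⟨q, hq⟩ := hzb; exact ⟨q, hq⟩)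
    refine ⟨g, ?_⟩
    have h1 : g ≫ a.orbitMap (if b then x₁ else x₂) = z := pt_ext hg
    rwa [Groth.L19.AlgGrpBasic.orbitMap_apply, toUnit_unique (toUnit _) (𝟙 _), Category.id_comp] at h1
  obtain ⟨g₁, hg₁⟩ := hg true
  obtain ⟨g₂, hg₂⟩ := hg false
  refine ⟨g₂⁻¹ * g₁, ?_⟩
  rw [Groth.L25.Actions.mul_act, show lift g₁ x₁ ≫ a.act = z from hg₁,
    ← show lift g₂ x₂ ≫ a.act = z from hg₂, ← Groth.L25.Actions.mul_act, inv_mul_cancel, Groth.L25.Actions.one_act]

end Groth.L16.UnipOrbit
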